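import Groth.Agent.FunMorLib.Ext
import Groth.Agent.FPFun.Hom

/-!
# Additivity, direct sums and right exactness of extensions from finitely presented modules
-/

set_option autoImplicit false
set_option backward.isDefEq.respectTransparency false
set_option linter.style.haveILetI false

universe u v' u'

open CategoryTheory CategoryTheory.Limits

namespace Groth.Agent.FunMorLib

variable {A : Type u} [CommRing A] {B : Type u'} [Category.{v'} B]

theorem additive_of_additive_fp [Preadditive B] (F : ModuleCat.{u} A ⥤ B) [PreservesFilteredColimitsOfSize.{u, u} F]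
    (h : (ι A ⋙ F).Additive) : F.Additive := by
  refine ⟨fun {M N f g} => hom_ext F fun P hP p => ?_⟩
  rw [Preadditive.comp_add, ← F.map_comp, ← F.map_comp, ← F.map_comp, Preadditive.comp_add]
  obtain ⟨Q, hQ, q, f', g', hf, hg⟩ := exists_common (hP := hP) (p ≫ f) (p ≫ g)
  rw [← hf, ← hg, ← Preadditive.add_comp, F.map_comp, F.map_comp, F.map_comp, ← Preadditive.add_comp]
  congr 1
  let P' : FPFun.FP A := ⟨P, hP⟩
  let Q' : FPFun.FP A := ⟨Q, hQ⟩
  exact (ι A ⋙ F).map_add (f := (ObjectProperty.homMk f' : P' ⟶ Q')) (g := (ObjectProperty.homMk g' : P' ⟶ Q'))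

open CoproductsFromFiniteFiltered in
theorem preservesCoproducts [Preadditive B] [HasFiniteBiproducts B] (F : ModuleCat.{u} A ⥤ B) [F.Additive]
    [PreservesFilteredColimitsOfSize.{u, u} F] (J : Type u) : PreservesColimitsOfShape (Discrete J) F := by
  classical
  haveI : PreservesFiniteCoproducts F := inferInstance
  refine ⟨fun {K} => preservesColimit_of_preserves_colimit_cocone (liftToFinsetColimitCocone K).isColimit ?_⟩
  haveI := PreservesFilteredColimitsOfSize.preserves_filtered_colimits (F := F) (Finset (Discrete J))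
  let L := liftToFinsetObj K
  let hL : IsColimit (F.mapCocone (colimit.cocone L)) := isColimitOfPreserves F (colimit.isColimit L)
  have hS : ∀ S : Finset (Discrete J),
      IsColimit (F.mapCocone (colimit.cocone (Discrete.functor fun x : {x // x ∈ S} => K.obj x))) :=
    fun S => isColimitOfPreserves F (colimit.isColimit _)
  let cs (s : Cocone (K ⋙ F)) (S : Finset (Discrete J)) :
      Cocone (Discrete.functor (fun x : {x // x ∈ S} => K.obj x) ⋙ F) :=
    ⟨s.pt, Discrete.natTrans fun x => s.ι.app x.as.1⟩
  have hfac : ∀ (s : Cocone (K ⋙ F)) (S : Finset (Discrete J)) (x : {x // x ∈ S}),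
      F.map (Sigma.ι (fun x : {x // x ∈ S} => K.obj x) x) ≫ (hS S).desc (cs s S) = s.ι.app x.1 :=
    fun s S x => (hS S).fac (cs s S) ⟨x⟩
  let cL (s : Cocone (K ⋙ F)) : Cocone (L ⋙ F) :=
    { pt := s.pt
      ι := { app := fun S => (hS S).desc (cs s S)
             naturality := fun S T h => by
              refine Eq.trans ?_ (Category.comp_id _).symm
              refine (hS S).hom_ext fun x => ?_
              obtain ⟨x⟩ := x
              refine Eq.trans ?_ (hfac s S x).symm
              show F.map (Sigma.ι (fun x : {x // x ∈ S} => K.obj x) x) ≫ F.map (L.map h) ≫ _ = _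
              rw [← F.map_comp_assoc]
              have e : Sigma.ι (fun x : {x // x ∈ S} => K.obj x) x ≫ L.map h =
                  Sigma.ι (fun x : {x // x ∈ T} => K.obj x) ⟨x.1, h.down.down x.2⟩ := by
                simp [L]
              rw [e]
              exact hfac s T ⟨x.1, h.down.down x.2⟩ } }
  refine { desc := fun s => hL.desc (cL s), fac := fun s j => ?_, uniq := fun s m hm => ?_ }
  · show F.map (Sigma.ι (fun x : {x // x ∈ ({j} : Finset (Discrete J))} => K.obj x) ⟨j, by simp⟩ ≫ colimit.ι L {j}) ≫ _ = _
    rw [F.map_comp, Category.assoc]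
    refine Eq.trans (congrArg _ (hL.fac (cL s) {j})) ?_
    exact hfac s {j} ⟨j, by simp⟩
  · refine hL.hom_ext fun S => ?_
    refine Eq.trans ?_ (hL.fac (cL s) S).symm
    refine (hS S).hom_ext fun x => ?_
    obtain ⟨x⟩ := x
    refine Eq.trans ?_ (hfac s S x).symm
    show F.map (Sigma.ι (fun x : {x // x ∈ S} => K.obj x) x) ≫ F.map (colimit.ι L S) ≫ m = _
    rw [← hm x.1]
    show _ = F.map (Sigma.ι (fun y : {y // y ∈ ({x.1} : Finset (Discrete J))} => K.obj y) ⟨x.1, by simp⟩ ≫ colimit.ι L {x.1}) ≫ m
    rw [← F.map_comp_assoc, ← colimit.w L (homOfLE (x := ({x.1} : Finset (Discrete J))) (y := S) (by simp))]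
    simp [L]

theorem additive_fp_of_rightExact [Preadditive B] [HasFiniteBiproducts B] (G : FPFun.FP A ⥤ B) [PreservesFiniteColimits G] :
    G.Additive := by
  haveI := FPFun.hasZeroObject (A := A)
  haveI := FPFun.hasBinaryBiproducts (A := A)
  haveI : HasZeroObject B := hasZeroObject_of_hasFiniteBiproducts _
  haveI : G.PreservesZeroMorphisms := Functor.preservesZeroMorphisms_of_map_zero_object
    ((IsInitial.isInitialObj G _ (isZero_zero (FPFun.FP A)).isInitial).uniqueUpToIso (isZero_zero B).isInitial)
  haveI := preservesBinaryBiproducts_of_preservesBinaryCoproducts G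
  exact Functor.additive_of_preservesBinaryBiproducts G

theorem preservesFiniteColimits_of_fp [Preadditive B] [HasFiniteBiproducts B] (F : ModuleCat.{u} A ⥤ B)
    [F.Additive] [PreservesFilteredColimitsOfSize.{u, u} F] (hG : PreservesFiniteColimits (ι A ⋙ F)) :
    PreservesFiniteColimits F := by
  classical
  haveI : HasZeroObject B := hasZeroObject_of_hasFiniteBiproducts _
  haveI : ∀ {M N : ModuleCat.{u} A} (f : M ⟶ N), PreservesColimit (parallelPair f 0) F := by
    intro M N f
    refine preservesColimit_of_preserves_colimit_cocone (cokernelIsCokernel f) ?_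
    refine (isColimitMapCoconeCoforkEquiv' F (cokernel.condition f)).symm ?_
    refine Cofork.IsColimit.ofExistsUnique fun s => ?_
    have hs : F.map f ≫ s.π = 0 := by rw [s.condition, zero_comp]
    set q := cokernel.π f
    have hq : Function.Surjective q.hom := (ModuleCat.epi_iff_surjective _).1 inferInstance
    have hker : ∀ y, q.hom y = 0 → ∃ x, f.hom x = y :=
      fun y hy => (ShortComplex.moduleCat_exact_iff _).1 (ShortComplex.exact_cokernel f) y hy
    -- lifts from free modules
    have lift_free : ∀ {n : ℕ} (v : ModuleCat.of A (Fin n → A) ⟶ cokernel f),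
        ∃ l : ModuleCat.of A (Fin n → A) ⟶ N, l ≫ q = v := by
      intro n v
      obtain ⟨l, hl⟩ := Module.projective_lifting_property q.hom v.hom hq
      exact ⟨ModuleCat.ofHom l, ModuleCat.hom_ext hl⟩
    have kill : ∀ {n : ℕ} (l l' : ModuleCat.of A (Fin n → A) ⟶ N), l ≫ q = l' ≫ q →
        F.map l ≫ s.π = F.map l' ≫ s.π := by
      intro n l l' h
      choose z hz using fun a : Fin n => hker (l.hom (Pi.single a 1) - l'.hom (Pi.single a 1)) (by
        rw [map_sub, sub_eq_zero]; exact ConcreteCategory.congr_hom h (Pi.single a 1))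
      let δ : ModuleCat.of A (Fin n → A) ⟶ M := ModuleCat.ofHom ((Pi.basisFun A (Fin n)).constr ℕ z)
      have hδ : l = l' + δ ≫ f := by
        refine ModuleCat.hom_ext ((Pi.basisFun A (Fin n)).ext fun a => ?_)
        show _ = l'.hom _ + f.hom ((Pi.basisFun A (Fin n)).constr ℕ z _)
        rw [Module.Basis.constr_basis, hz, Pi.basisFun_apply]
        abel
      rw [hδ, F.map_add, Preadditive.add_comp, F.map_comp, Category.assoc, hs, comp_zero, add_zero]
    have leg : ∀ g : CostructuredArrow (ι A) (cokernel f), ∃! t : F.obj g.left.obj ⟶ s.pt,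
        ∀ (n : ℕ) (π : ModuleCat.of A (Fin n → A) ⟶ g.left.obj) (l : ModuleCat.of A (Fin n → A) ⟶ N),
          l ≫ q = π ≫ g.hom → F.map π ≫ t = F.map l ≫ s.π := by
      intro g
      haveI : Module.FinitePresentation A g.left.obj := g.left.property
      obtain ⟨n, v, hv⟩ := Module.Finite.exists_fin (R := A) (M := g.left.obj)
      let p : (Fin n → A) →ₗ[A] g.left.obj := Fintype.linearCombination A v
      have hp : Function.Surjective p := by
        rw [← LinearMap.range_eq_top, Fintype.range_linearCombination, hv]
      obtain ⟨m, w, hw⟩ := Submodule.fg_iff_exists_fin_generating_family.1 (Module.FinitePresentation.fg_ker p hp)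
      let d : (Fin m → A) →ₗ[A] (Fin n → A) := Fintype.linearCombination A w
      have hd : LinearMap.range d = LinearMap.ker p := by rw [Fintype.range_linearCombination, hw]
      let P0 : FPFun.FP A := fpObj (A := A) (Fin n → A)
      let P1 : FPFun.FP A := fpObj (A := A) (Fin m → A)
      let π0 : P0 ⟶ g.left := ObjectProperty.homMk (ModuleCat.ofHom p)
      let dd : P1 ⟶ P0 := ObjectProperty.homMk (ModuleCat.ofHom d)
      have hcond : dd ≫ π0 = 0 := ObjectProperty.hom_ext _ (ModuleCat.hom_ext (LinearMap.ext fun x =>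
        LinearMap.mem_ker.1 (hd.le ⟨x, rfl⟩)))
      have hcol : IsColimit (CokernelCofork.ofπ π0 hcond) := by
        refine Cofork.IsColimit.ofExistsUnique fun t => ?_
        have ht : LinearMap.ker p ≤ LinearMap.ker t.π.hom.hom := by
          rw [← hd]
          rintro _ ⟨x, rfl⟩
          have h := t.condition
          rw [zero_comp] at h
          exact LinearMap.mem_ker.2 (congrArg (fun z : P1 ⟶ t.pt => z.hom.hom x) h)
        refine ⟨ObjectProperty.homMk (ModuleCat.ofHom
          (((LinearMap.ker p).liftQ t.π.hom.hom ht).comp (p.quotKerEquivOfSurjective hp).symm.toLinearMap)), ?_, fun b hb => ?_⟩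
        · refine ObjectProperty.hom_ext _ (ModuleCat.hom_ext (LinearMap.ext fun x => ?_))
          show (LinearMap.ker p).liftQ t.π.hom.hom ht ((p.quotKerEquivOfSurjective hp).symm (p x)) = t.π.hom.hom x
          rw [show (p.quotKerEquivOfSurjective hp).symm (p x) = Submodule.Quotient.mk x from
            (LinearEquiv.symm_apply_eq _).2 rfl]
          rfl
        · refine ObjectProperty.hom_ext _ (ModuleCat.hom_ext (LinearMap.ext fun y => ?_))
          obtain ⟨x, rfl⟩ := hp y
          show b.hom.hom (p x) = (LinearMap.ker p).liftQ t.π.hom.hom ht ((p.quotKerEquivOfSurjective hp).symm (p x))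
          rw [show (p.quotKerEquivOfSurjective hp).symm (p x) = Submodule.Quotient.mk x from
            (LinearEquiv.symm_apply_eq _).2 rfl]
          exact congrArg (fun z : P0 ⟶ t.pt => z.hom.hom x) hb
      let Gc := isColimitCoforkMapOfIsColimit' (ι A ⋙ F) hcond hcol
      obtain ⟨l0, hl0⟩ := lift_free (ModuleCat.ofHom p ≫ g.hom)
      have hl0' : (ι A ⋙ F).map dd ≫ (F.map l0 ≫ s.π) = 0 := by
        show F.map (ModuleCat.ofHom d) ≫ F.map l0 ≫ s.π = 0
        rw [← F.map_comp_assoc, kill (ModuleCat.ofHom d ≫ l0) 0 (by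
          rw [Category.assoc, hl0, ← Category.assoc, zero_comp,
            show ModuleCat.ofHom d ≫ ModuleCat.ofHom p = 0 from congrArg (fun z => z.hom) hcond, zero_comp]),
          F.map_zero, zero_comp]
      obtain ⟨t, ht⟩ := CokernelCofork.IsColimit.desc' Gc (F.map l0 ≫ s.π) hl0'
      have ht' : F.map (ModuleCat.ofHom p) ≫ t = F.map l0 ≫ s.π := ht
      refine ⟨t, fun n' π l hl => ?_, fun t' ht2 => ?_⟩
      · obtain ⟨α, hα⟩ := Module.projective_lifting_property p π.hom hp
        have eπ : π = ModuleCat.ofHom α ≫ ModuleCat.ofHom p := ModuleCat.hom_ext hα.symm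
        rw [eπ, F.map_comp, Category.assoc, ht', ← F.map_comp_assoc]
        exact kill _ _ (by rw [Category.assoc, hl0, hl, eπ, Category.assoc])
      · refine Cofork.IsColimit.hom_ext Gc ?_
        show F.map (ModuleCat.ofHom p) ≫ t' = F.map (ModuleCat.ofHom p) ≫ t
        rw [ht', ht2 n _ _ hl0]
    choose t ht htu using leg
    let cc : Cocone (CostructuredArrow.proj (ι A) (cokernel f) ⋙ ι A ⋙ F) :=
      { pt := s.pt
        ι := { app := t
               naturality := fun g g' φ => by
                show F.map φ.left.hom ≫ t g' = t g ≫ 𝟙 _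
                rw [Category.comp_id]
                refine htu g _ fun n π l hl => ?_
                rw [← F.map_comp_assoc]
                exact ht g' n _ l (by rw [hl, Category.assoc]; congr 1; exact (CostructuredArrow.w φ).symm) } }
    let desc : F.obj (cokernel f) ⟶ s.pt := (isColimitCanCocone F (cokernel f)).desc cc
    have hdesc : ∀ g : CostructuredArrow (ι A) (cokernel f), F.map g.hom ≫ desc = t g := fun g => by
      have h : (𝟙 _ ≫ F.map g.hom) ≫ desc = t g := (isColimitCanCocone F (cokernel f)).fac cc g
      rwa [Category.id_comp] at h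
    have tfree : ∀ (P : ModuleCat.{u} A) (hP : Module.FinitePresentation A P) (p : P ⟶ N),
        F.map p ≫ F.map q ≫ desc = F.map p ≫ s.π := by
      intro P hP p
      haveI := hP
      let g : CostructuredArrow (ι A) (cokernel f) := CostructuredArrow.mk (Y := (⟨P, hP⟩ : FPFun.FP A)) (p ≫ q)
      obtain ⟨n, v, hv⟩ := Module.Finite.exists_fin (R := A) (M := P)
      let π : ModuleCat.of A (Fin n → A) ⟶ P := ModuleCat.ofHom (Fintype.linearCombination A v)
      have hπ : Function.Surjective π.hom := by
        rw [← LinearMap.range_eq_top]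
        exact (Fintype.range_linearCombination A v).trans hv
      rw [← F.map_comp_assoc]
      refine (hdesc g).trans ?_
      refine ((htu g) _ fun n' π' l hl => ?_).symm
      rw [← F.map_comp_assoc]
      exact (kill l (π' ≫ p) (by rw [hl, Category.assoc]; rfl)).symm
    refine ⟨desc, hom_ext F tfree, fun m hm => hom_ext F fun P hP p => ?_⟩
    haveI := hP
    refine Eq.trans ?_ (hdesc (CostructuredArrow.mk (Y := (⟨P, hP⟩ : FPFun.FP A)) p)).symm
    refine htu (CostructuredArrow.mk (Y := (⟨P, hP⟩ : FPFun.FP A)) p) _ fun n π l hl => ?_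
    rw [← F.map_comp_assoc, ← hm]
    show _ = F.map l ≫ F.map q ≫ m
    rw [← F.map_comp_assoc, hl]
    rfl
  exact Functor.preservesFiniteColimits_of_preservesCokernels F

end Groth.Agent.FunMorLib
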