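import Mathlib
import Groth.Agent.FPFun.Functor

/-!
# Finitely presented modules are dense; extending functors along filtered colimits
-/

set_option autoImplicit false
set_option backward.isDefEq.respectTransparency false
set_option linter.style.haveILetI false

universe u v' u'

open CategoryTheory CategoryTheory.Limits

namespace Groth.Agent.FunMorLib

variable {A : Type u} [CommRing A]

/-- the inclusion of finitely presented modules -/
abbrev ι (A : Type u) [CommRing A] :=
  ObjectProperty.ι (fun M : ModuleCat.{u} A => Module.FinitePresentation A M)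

/-- a finitely presented module as an object of the subcategory -/
abbrev fpObj (P : Type u) [AddCommGroup P] [Module A P] [h : Module.FinitePresentation A P] : FPFun.FP A :=
  ⟨ModuleCat.of A P, h⟩

section Presentable

variable {J : Type u} [SmallCategory J] [IsFiltered J] {D : J ⥤ ModuleCat.{u} A} {c : Cocone D}

theorem exists_forall_eq (hc : IsColimit c) {κ : Type u} (s : Finset κ) {j : J} (x y : κ → D.obj j)
    (h : ∀ a ∈ s, c.ι.app j (x a) = c.ι.app j (y a)) :
    ∃ (k : J) (α : j ⟶ k), ∀ a ∈ s, D.map α (x a) = D.map α (y a) := by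
  classical
  induction s using Finset.induction_on with
  | empty => exact ⟨j, 𝟙 j, fun a ha => absurd ha (Finset.notMem_empty a)⟩
  | @insert a s _ ih =>
    obtain ⟨k, α, hs⟩ := ih fun b hb => h b (Finset.mem_insert_of_mem hb)
    have hw : ∀ z : D.obj j, c.ι.app k (D.map α z) = c.ι.app j z := fun z =>
      ConcreteCategory.congr_hom (c.w α) z
    obtain ⟨l, β, γ, he⟩ := (Concrete.isColimit_rep_eq_iff_exists D hc (D.map α (x a)) (D.map α (y a))).1
      (by rw [hw, hw]; exact h a (Finset.mem_insert_self a s))
    refine ⟨IsFiltered.coeq β γ, α ≫ β ≫ IsFiltered.coeqHom β γ, fun b hb => ?_⟩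
    simp only [Functor.map_comp, ModuleCat.comp_apply]
    rcases Finset.mem_insert.1 hb with rfl | hb
    · rw [he]
      have hc' := ConcreteCategory.congr_hom (congrArg D.map (IsFiltered.coeq_condition β γ)) (D.map α (y b))
      simp only [Functor.map_comp, ModuleCat.comp_apply] at hc'
      exact hc'.symm
    · rw [hs b hb]

/-- maps from a finite module into a filtered colimit are eventually equal -/
theorem exists_eq (hc : IsColimit c) {P : ModuleCat.{u} A} [Module.Finite A P] {j : J} (g g' : P ⟶ D.obj j)
    (h : g ≫ c.ι.app j = g' ≫ c.ι.app j) : ∃ (k : J) (α : j ⟶ k), g ≫ D.map α = g' ≫ D.map α := by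
  classical
  obtain ⟨s, hs⟩ := Module.Finite.fg_top (R := A) (M := P)
  obtain ⟨k, α, hk⟩ := exists_forall_eq hc s (fun a => g a) (fun a => g' a)
    fun a _ => ConcreteCategory.congr_hom h a
  exact ⟨k, α, ModuleCat.hom_ext (LinearMap.ext_on hs fun a ha => hk a ha)⟩

/-- a map from a finitely presented module into a filtered colimit factors through a stage -/
theorem exists_hom (hc : IsColimit c) {P : ModuleCat.{u} A} [Module.FinitePresentation A P] (f : P ⟶ c.pt) :
    ∃ (j : J) (g : P ⟶ D.obj j), g ≫ c.ι.app j = f := by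
  classical
  obtain ⟨n, v, hv⟩ := Module.Finite.exists_fin (R := A) (M := P)
  let p : (Fin n → A) →ₗ[A] P := Fintype.linearCombination A v
  have hp : Function.Surjective p := by
    rw [← LinearMap.range_eq_top, Fintype.range_linearCombination, hv]
  choose idx y hy using fun a : Fin n => Concrete.isColimit_exists_rep D hc (f (p (Pi.single a 1)))
  obtain ⟨j, hj⟩ := IsFiltered.sup_objs_exists (Finset.univ.image idx)
  let h : (Fin n → A) →ₗ[A] D.obj j := (Pi.basisFun A (Fin n)).constr ℕ fun a =>
    D.map (hj (Finset.mem_image_of_mem idx (Finset.mem_univ a))).some (y a)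
  have hh : ∀ w, c.ι.app j (h w) = f (p w) := fun w => by
    refine LinearMap.congr_fun (f := (c.ι.app j).hom.comp h) (g := f.hom.comp p)
      ((Pi.basisFun A (Fin n)).ext fun a => ?_) w
    simp only [LinearMap.comp_apply, h, Module.Basis.constr_basis]
    rw [Pi.basisFun_apply]
    exact (ConcreteCategory.congr_hom (c.w _) (y a)).trans (hy a)
  obtain ⟨s, hs⟩ := Module.FinitePresentation.fg_ker p hp
  obtain ⟨k, α, hk⟩ := exists_forall_eq hc s (fun r => h r) (fun _ => 0) fun r hr => by
    rw [map_zero, hh, show p r = 0 from LinearMap.mem_ker.1 (hs ▸ Submodule.subset_span hr), map_zero]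
  have hle : LinearMap.ker p ≤ LinearMap.ker ((D.map α).hom.comp h) := by
    rw [← hs, Submodule.span_le]
    intro r hr
    exact LinearMap.mem_ker.2 ((hk r hr).trans (map_zero _))
  let φ : P →ₗ[A] D.obj k := ((LinearMap.ker p).liftQ _ hle).comp (p.quotKerEquivOfSurjective hp).symm.toLinearMap
  have hφ : ∀ w, φ (p w) = D.map α (h w) := fun w => by
    simp only [φ, LinearMap.comp_apply, LinearEquiv.coe_coe]
    rw [show (p.quotKerEquivOfSurjective hp).symm (p w) = Submodule.Quotient.mk w from
      (LinearEquiv.symm_apply_eq _).2 rfl]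
    rfl
  refine ⟨k, ModuleCat.ofHom φ, ModuleCat.hom_ext (LinearMap.ext fun m => ?_)⟩
  obtain ⟨w, rfl⟩ := hp m
  exact (congrArg (c.ι.app k).hom (hφ w)).trans ((ConcreteCategory.congr_hom (c.w α) (h w)).trans (hh w))

end Presentable

section Dense

variable (M : ModuleCat.{u} A)

instance isFiltered_costructuredArrow : IsFiltered (CostructuredArrow (ι A) M) := by
  haveI : Nonempty (CostructuredArrow (ι A) M) := ⟨CostructuredArrow.mk (Y := fpObj (A := A) A) 0⟩
  haveI : IsFilteredOrEmpty (CostructuredArrow (ι A) M) := by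
    constructor
    · intro X Y
      haveI : Module.FinitePresentation A X.left.obj := X.left.property
      haveI : Module.FinitePresentation A Y.left.obj := Y.left.property
      let Z : CostructuredArrow (ι A) M :=
        CostructuredArrow.mk (Y := fpObj (A := A) (↥X.left.obj × ↥Y.left.obj))
          (ModuleCat.ofHom (LinearMap.coprod X.hom.hom Y.hom.hom))
      refine ⟨Z, CostructuredArrow.homMk (ObjectProperty.homMk (ModuleCat.ofHom (LinearMap.inl A _ _))) ?_,
        CostructuredArrow.homMk (ObjectProperty.homMk (ModuleCat.ofHom (LinearMap.inr A _ _))) ?_, trivial⟩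
      · exact ModuleCat.hom_ext (LinearMap.coprod_inl _ _)
      · exact ModuleCat.hom_ext (LinearMap.coprod_inr _ _)
    · intro X Y f g
      haveI : Module.FinitePresentation A X.left.obj := X.left.property
      haveI : Module.FinitePresentation A Y.left.obj := Y.left.property
      let d : ↥X.left.obj →ₗ[A] ↥Y.left.obj := f.left.hom.hom - g.left.hom.hom
      haveI : Module.FinitePresentation A (↥Y.left.obj ⧸ LinearMap.range d) :=
        Module.finitePresentation_of_surjective _ (Submodule.mkQ_surjective _)
          (by rw [Submodule.ker_mkQ, LinearMap.range_eq_map]; exact Module.Finite.fg_top.map _)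
      have hd : LinearMap.range d ≤ LinearMap.ker Y.hom.hom := by
        rintro _ ⟨x, rfl⟩
        rw [LinearMap.mem_ker, LinearMap.sub_apply, map_sub]
        exact sub_eq_zero.2 ((ConcreteCategory.congr_hom (CostructuredArrow.w f) x).trans
          (ConcreteCategory.congr_hom (CostructuredArrow.w g) x).symm)
      let Z : CostructuredArrow (ι A) M :=
        CostructuredArrow.mk (Y := fpObj (A := A) (↥Y.left.obj ⧸ LinearMap.range d))
          (ModuleCat.ofHom ((LinearMap.range d).liftQ Y.hom.hom hd))
      refine ⟨Z, CostructuredArrow.homMk (ObjectProperty.homMk (ModuleCat.ofHom (Submodule.mkQ _))) ?_, ?_⟩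
      · exact ModuleCat.hom_ext (Submodule.liftQ_mkQ _ _ _)
      · refine CostructuredArrow.hom_ext _ _ (ObjectProperty.hom_ext _ (ModuleCat.hom_ext (LinearMap.ext fun x => ?_)))
        exact (Submodule.Quotient.eq _).2 ⟨x, rfl⟩
  exact ⟨⟩

/-- an element as an arrow from the ring -/
noncomputable def ptArrow (m : M) : CostructuredArrow (ι A) M :=
  CostructuredArrow.mk (Y := fpObj (A := A) A) (ModuleCat.ofHom (LinearMap.toSpanSingleton A M m))

theorem isDenseAt : (ι A).isDenseAt M := by
  let c := (Functor.LeftExtension.mk _ (Functor.rightUnitor (ι A)).inv).coconeAt M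
  have hι : ∀ g : CostructuredArrow (ι A) M, ∀ x, c.ι.app g x = g.hom x := fun g x => rfl
  let val (s : Cocone (CostructuredArrow.proj (ι A) M ⋙ ι A)) (m : M) : s.pt := s.ι.app (ptArrow M m) (1 : A)
  have key : ∀ (s : Cocone (CostructuredArrow.proj (ι A) M ⋙ ι A)) (g : CostructuredArrow (ι A) M) (x : ↥g.left.obj),
      s.ι.app g x = val s (g.hom x) := by
    intro s g x
    haveI : Module.FinitePresentation A g.left.obj := g.left.property
    let φ : ptArrow M (g.hom x) ⟶ g :=
      CostructuredArrow.homMk (ObjectProperty.homMk (ModuleCat.ofHom (LinearMap.toSpanSingleton A _ x)))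
        (ModuleCat.hom_ext (LinearMap.ext_ring (by
          show g.hom ((1 : A) • x) = (1 : A) • g.hom x
          rw [one_smul, one_smul])))
    have h := ConcreteCategory.congr_hom (s.w φ) (1 : A)
    refine Eq.trans ?_ h
    show s.ι.app g x = s.ι.app g ((1 : A) • x)
    rw [one_smul]
  refine ⟨{ desc := fun s => ModuleCat.ofHom
              { toFun := val s
                map_add' := fun m m' => ?_
                map_smul' := fun a m => ?_ }
            fac := fun s g => ModuleCat.hom_ext (LinearMap.ext fun x => (key s g x).symm)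
            uniq := fun s m hm => ModuleCat.hom_ext (LinearMap.ext fun x => ?_) }⟩
  · let g : CostructuredArrow (ι A) M := CostructuredArrow.mk (Y := fpObj (A := A) (A × A))
      (ModuleCat.ofHom (LinearMap.coprod (LinearMap.toSpanSingleton A M m) (LinearMap.toSpanSingleton A M m')))
    have e : ∀ p : A × A, g.hom p = p.1 • m + p.2 • m' := fun p => rfl
    have h := (key s g _).symm.trans ((map_add (ConcreteCategory.hom (s.ι.app g)) ((1, 0) : A × A) ((0, 1) : A × A)).trans
      (congrArg₂ (· + ·) (key s g _) (key s g _)))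
    refine Eq.trans (congrArg (val s) ?_) (h.trans (congrArg₂ (· + ·) (congrArg (val s) ?_) (congrArg (val s) ?_)))
    · refine Eq.trans ?_ (e (((1, 0) : A × A) + (0, 1))).symm
      simp
    · refine (e ((1, 0) : A × A)).trans ?_
      simp
    · refine (e ((0, 1) : A × A)).trans ?_
      simp
  · have h := (key s (ptArrow M m) _).symm.trans ((map_smul (ConcreteCategory.hom (s.ι.app (ptArrow M m))) a (1 : A)).trans
      (congrArg (a • ·) (key s (ptArrow M m) _)))
    refine Eq.trans (congrArg (val s) ?_) (h.trans (congrArg (fun z => a • val s z) ?_))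
    · show a • m = (a • (1 : A)) • m
      rw [smul_eq_mul, mul_one]
    · show (1 : A) • m = m
      rw [one_smul]
  · have h := ConcreteCategory.congr_hom (hm (ptArrow M x)) (1 : A)
    refine Eq.trans ?_ h
    show m x = m ((1 : A) • x)
    rw [one_smul]

instance isDense_ι : (ι A).IsDense := ⟨isDenseAt⟩

instance essentiallySmall_fp :
    ObjectProperty.EssentiallySmall.{u} (fun M : ModuleCat.{u} A => Module.FinitePresentation A M) := by
  refine ⟨ObjectProperty.ofObj (fun p : Σ n : ℕ, Submodule A (Fin n → A) => ModuleCat.of A ((Fin p.1 → A) ⧸ p.2)),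
    inferInstance, fun M hM => ?_⟩
  haveI : Module.FinitePresentation A M := hM
  obtain ⟨n, v, hv⟩ := Module.Finite.exists_fin (R := A) (M := M)
  let p : (Fin n → A) →ₗ[A] M := Fintype.linearCombination A v
  have hp : Function.Surjective p := by
    rw [← LinearMap.range_eq_top, Fintype.range_linearCombination, hv]
  exact ⟨_, .mk ⟨n, LinearMap.ker p⟩, ⟨(p.quotKerEquivOfSurjective hp).toModuleIso.symm⟩⟩

instance essentiallySmall_fp_cat : EssentiallySmall.{u} (FPFun.FP A) := inferInstance

instance essentiallySmall_costructuredArrow : EssentiallySmall.{u} (CostructuredArrow (ι A) M) := by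
  haveI : LocallySmall.{u} (ModuleCat.{u} A) := inferInstance
  infer_instance

end Dense

variable {B : Type u'} [Category.{v'} B]

theorem hasColimitsOfShape_costructuredArrow [HasFilteredColimitsOfSize.{u, u} B] (M : ModuleCat.{u} A) :
    HasColimitsOfShape (CostructuredArrow (ι A) M) B := by
  haveI : IsFiltered (SmallModel.{u} (CostructuredArrow (ι A) M)) :=
    IsFiltered.of_equivalence (equivSmallModel.{u} _)
  haveI := HasFilteredColimitsOfSize.HasColimitsOfShape (C := B) (SmallModel.{u} (CostructuredArrow (ι A) M))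
  exact hasColimitsOfShape_of_equivalence (equivSmallModel.{u} (CostructuredArrow (ι A) M)).symm

theorem preservesColimitsOfShape_costructuredArrow (F : ModuleCat.{u} A ⥤ B)
    [PreservesFilteredColimitsOfSize.{u, u} F] (M : ModuleCat.{u} A) :
    PreservesColimitsOfShape (CostructuredArrow (ι A) M) F := by
  haveI : IsFiltered (SmallModel.{u} (CostructuredArrow (ι A) M)) :=
    IsFiltered.of_equivalence (equivSmallModel.{u} _)
  haveI := PreservesFilteredColimitsOfSize.preserves_filtered_colimits (F := F)
    (SmallModel.{u} (CostructuredArrow (ι A) M))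
  exact preservesColimitsOfShape_of_equiv (equivSmallModel.{u} (CostructuredArrow (ι A) M)).symm F

/-- the canonical cocone of a functor at a module -/
noncomputable def canCocone (F : ModuleCat.{u} A ⥤ B) (M : ModuleCat.{u} A) :
    Cocone (CostructuredArrow.proj (ι A) M ⋙ ι A ⋙ F) :=
  (Functor.LeftExtension.mk F (𝟙 (ι A ⋙ F))).coconeAt M

/-- a functor commuting with filtered colimits is computed on the canonical cocone -/
noncomputable def isColimitCanCocone (F : ModuleCat.{u} A ⥤ B) [PreservesFilteredColimitsOfSize.{u, u} F]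
    (M : ModuleCat.{u} A) : IsColimit (canCocone F M) :=
  haveI := preservesColimitsOfShape_costructuredArrow F M
  IsColimit.ofIsoColimit (isColimitOfPreserves F ((ι A).denseAt M))
    (Cocone.ext (Iso.refl _) fun g => by
      show F.map (𝟙 g.left.obj ≫ g.hom) ≫ 𝟙 _ = 𝟙 _ ≫ F.map g.hom
      simp)

/-- to check an equation of maps out of a value, test it on finitely presented modules -/
theorem hom_ext (F : ModuleCat.{u} A ⥤ B) [PreservesFilteredColimitsOfSize.{u, u} F] {M : ModuleCat.{u} A} {Z : B}
    {a b : F.obj M ⟶ Z}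
    (h : ∀ (P : ModuleCat.{u} A) (_ : Module.FinitePresentation A P) (p : P ⟶ M), F.map p ≫ a = F.map p ≫ b) :
    a = b :=
  (isColimitCanCocone F M).hom_ext fun g => by
    show (𝟙 _ ≫ F.map g.hom) ≫ a = (𝟙 _ ≫ F.map g.hom) ≫ b
    simpa using h g.left.obj g.left.property g.hom

/-- two maps from a finitely presented module factor through a common finitely presented module -/
theorem exists_common {P : ModuleCat.{u} A} [hP : Module.FinitePresentation A P] {N : ModuleCat.{u} A} (f g : P ⟶ N) :
    ∃ (Q : ModuleCat.{u} A) (_ : Module.FinitePresentation A Q) (q : Q ⟶ N) (f' g' : P ⟶ Q), f' ≫ q = f ∧ g' ≫ q = g :=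
  ⟨ModuleCat.of A (↥P × ↥P), (inferInstance : Module.FinitePresentation A (↥P × ↥P)),
    ModuleCat.ofHom (LinearMap.coprod f.hom g.hom),
    ModuleCat.ofHom (LinearMap.inl A _ _), ModuleCat.ofHom (LinearMap.inr A _ _),
    ModuleCat.hom_ext (LinearMap.coprod_inl _ _), ModuleCat.hom_ext (LinearMap.coprod_inr _ _)⟩

theorem exists_extension [HasFilteredColimitsOfSize.{u, u} B] (F : FPFun.FP A ⥤ B) :
    ∃ F' : ModuleCat.{u} A ⥤ B, PreservesFilteredColimitsOfSize.{u, u} F' ∧ Nonempty (ι A ⋙ F' ≅ F) := by
  haveI : Functor.HasPointwiseLeftKanExtension (ι A) F := fun M => by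
    haveI := hasColimitsOfShape_costructuredArrow (B := B) M
    exact inferInstanceAs (HasColimit (CostructuredArrow.proj (ι A) M ⋙ F))
  let F' := (ι A).pointwiseLeftKanExtension F
  let η := (ι A).pointwiseLeftKanExtensionUnit F
  let hF' := (ι A).pointwiseLeftKanExtensionIsPointwiseLeftKanExtension F
  haveI : IsIso η := hF'.isIso_hom
  refine ⟨F', ⟨fun J _ _ => ⟨fun {D} => ⟨fun {c} hc => ⟨?_⟩⟩⟩⟩, ⟨(asIso η).symm⟩⟩
  have hom_ext' : ∀ {Y : ModuleCat.{u} A} {Z : B} {a b : F'.obj Y ⟶ Z},
      (∀ (g : CostructuredArrow (ι A) Y), η.app g.left ≫ F'.map g.hom ≫ a = η.app g.left ≫ F'.map g.hom ≫ b) → a = b :=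
    fun {Y Z a b} h => (hF' Y).hom_ext fun g => by
      show (η.app g.left ≫ F'.map g.hom) ≫ a = (η.app g.left ≫ F'.map g.hom) ≫ b
      simpa using h g
  choose jj lift hlift using fun g : CostructuredArrow (ι A) c.pt =>
    haveI : Module.FinitePresentation A g.left.obj := g.left.property
    exists_hom hc (P := g.left.obj) g.hom
  have indep : ∀ (s : Cocone (D ⋙ F')) (P : FPFun.FP A) (j k : J) (u : P.obj ⟶ D.obj j) (v : P.obj ⟶ D.obj k),
      u ≫ c.ι.app j = v ≫ c.ι.app k →
        η.app P ≫ F'.map u ≫ s.ι.app j = η.app P ≫ F'.map v ≫ s.ι.app k := by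
    intro s P j k u v h
    haveI : Module.FinitePresentation A P.obj := P.property
    obtain ⟨l, a, b, -⟩ := IsFilteredOrEmpty.cocone_objs j k
    obtain ⟨m, γ, hγ⟩ := exists_eq hc (u ≫ D.map a) (v ≫ D.map b) (by
      rw [Category.assoc, Category.assoc, c.w, c.w, h])
    simp only [Category.assoc, ← Functor.map_comp] at hγ
    have e1 : s.ι.app j = F'.map (D.map (a ≫ γ)) ≫ s.ι.app m := (s.w (a ≫ γ)).symm
    have e2 : s.ι.app k = F'.map (D.map (b ≫ γ)) ≫ s.ι.app m := (s.w (b ≫ γ)).symm
    rw [e1, e2, ← F'.map_comp_assoc, ← F'.map_comp_assoc, hγ]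
  let cc (s : Cocone (D ⋙ F')) : Cocone (CostructuredArrow.proj (ι A) c.pt ⋙ F) :=
    { pt := s.pt
      ι := { app := fun g => η.app g.left ≫ F'.map (lift g) ≫ s.ι.app (jj g)
             naturality := fun g g' φ => by
              show F.map φ.left ≫ η.app g'.left ≫ F'.map (lift g') ≫ s.ι.app (jj g') =
                (η.app g.left ≫ F'.map (lift g) ≫ s.ι.app (jj g)) ≫ 𝟙 _
              rw [Category.comp_id, ← Category.assoc (F.map φ.left), η.naturality φ.left, Category.assoc,
                Functor.comp_map, ← F'.map_comp_assoc]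
              refine indep s g.left _ _ _ _ ?_
              rw [hlift g, Category.assoc, hlift g']
              exact CostructuredArrow.w φ } }
  have hcc : ∀ (s : Cocone (D ⋙ F')) (g : CostructuredArrow (ι A) c.pt),
      η.app g.left ≫ F'.map g.hom ≫ (hF' c.pt).desc (cc s) = (cc s).ι.app g := fun s g => by
    rw [← (hF' c.pt).fac (cc s) g]
    exact (Category.assoc _ _ _).symm
  refine { desc := fun s => (hF' c.pt).desc (cc s), fac := fun s j => ?_, uniq := fun s m hm => ?_ }
  · refine hom_ext' fun g => ?_
    let g' : CostructuredArrow (ι A) c.pt := CostructuredArrow.mk (g.hom ≫ c.ι.app j)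
    have h1 := hcc s g'
    show η.app g.left ≫ F'.map g.hom ≫ F'.map (c.ι.app j) ≫ _ = _
    rw [← F'.map_comp_assoc]
    refine h1.trans ?_
    exact indep s g.left _ _ _ _ (hlift g')
  · refine hom_ext' fun g => ?_
    rw [hcc]
    show η.app g.left ≫ F'.map g.hom ≫ m = η.app g.left ≫ F'.map (lift g) ≫ s.ι.app (jj g)
    rw [← hm (jj g)]
    show η.app g.left ≫ F'.map g.hom ≫ m = η.app g.left ≫ F'.map (lift g) ≫ F'.map (c.ι.app (jj g)) ≫ m
    rw [← F'.map_comp_assoc (lift g), hlift]

theorem unique_extension (F₁ F₂ : ModuleCat.{u} A ⥤ B) [PreservesFilteredColimitsOfSize.{u, u} F₁]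
    [PreservesFilteredColimitsOfSize.{u, u} F₂] (e : ι A ⋙ F₁ ≅ ι A ⋙ F₂) : Nonempty (F₁ ≅ F₂) := by
  have h : ∀ (F : ModuleCat.{u} A ⥤ B) [PreservesFilteredColimitsOfSize.{u, u} F],
      F.IsLeftKanExtension (𝟙 (ι A ⋙ F)) := fun F _ =>
    Functor.LeftExtension.IsPointwiseLeftKanExtension.isLeftKanExtension
      (E := Functor.LeftExtension.mk F (𝟙 (ι A ⋙ F))) fun M => isColimitCanCocone F M
  haveI := h F₁
  haveI := h F₂
  exact ⟨Functor.leftKanExtensionUniqueOfIso F₁ (𝟙 (ι A ⋙ F₁)) e F₂ (𝟙 (ι A ⋙ F₂))⟩

end Groth.Agent.FunMorLib
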